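import Cfsg.Agent.Lib.DerangeTwo.Pair
import Mathlib.Algebra.Order.BigOperators.Ring.Finset
import Mathlib.Algebra.BigOperators.Field
import Mathlib.Algebra.Order.BigOperators.Group.Finset
import Mathlib.GroupTheory.GroupAction.Quotient
import Mathlib.Tactic.Linarith
import Mathlib.Tactic.FieldSimp
import Mathlib.Tactic.Ring

/-!
The weighted count of fixed points on a two-point stabiliser.
-/

set_option autoImplicit false
set_option linter.style.haveILetI false

namespace Cfsg.Agent.DerangeTwo

open MulAction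

variable {G Ω : Type*} [Group G] [MulAction G Ω] [Finite G] [Fintype Ω]

/-- Number of fixed points. -/
noncomputable def fx (Ω : Type*) {G : Type*} [Group G] [MulAction G Ω] (g : G) : ℕ :=
  Nat.card (fixedBy Ω g)

theorem fx_conj (k g : G) : fx Ω (k * g * k⁻¹) = fx Ω g :=
  (Nat.card_congr ((MulAction.toPerm k).subtypeEquiv fun x => by
    simp [mem_fixedBy, mul_smul, smul_left_cancel_iff])).symm

theorem fx_one : fx Ω (1 : G) = Fintype.card Ω := by
  rw [fx, ← Nat.card_eq_fintype_card]
  exact Nat.card_congr (Equiv.subtypeUnivEquiv fun x => one_smul G x)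

theorem two_le_fx {a b : Ω} (hab : a ≠ b) {g : G} (hg : g ∈ pairStab G a b) : 2 ≤ fx Ω g := by
  rw [fx, Nat.card_coe_set_eq, ← Set.ncard_pair hab]
  exact Set.ncard_le_ncard (by rintro x (rfl | rfl); exacts [hg.1, hg.2]) (Set.toFinite _)

/-- Every element of a two-point stabiliser that moves a point `x` fixes at most
`(n - 1) / (f - 1)` points, `f` the number of fixed points of the stabiliser. -/
theorem fx_mul_le [FaithfulSMul G Ω] (h2 : TwoTrans G Ω) {a b : Ω} (hab : a ≠ b) {g : G}
    (hg : g ∈ pairStab G a b) (hg1 : g ≠ 1) :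
    fx Ω g * (Nat.card (fixedPoints (pairStab G a b) Ω) - 1) ≤ Fintype.card Ω - 1 := by
  classical
  obtain ⟨x, hx⟩ : ∃ x : Ω, g • x ≠ x := by
    by_contra hc
    push Not at hc
    exact hg1 (FaithfulSMul.eq_of_smul_eq_smul (α := Ω) fun w => by rw [one_smul]; exact hc w)
  set Φ := (Finset.univ.filter fun y : Ω => g • y = y) with hΦ
  have hne : ∀ y ∈ Φ, x ≠ y := fun y hy e => hx (e ▸ (Finset.mem_filter.1 hy).2)
  let line : Ω → Finset Ω := fun y =>
    (Finset.univ.filter fun z : Ω => ∀ k ∈ pairStab G x y, k • z = z).erase x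
  have hcard : ∀ y ∈ Φ, (line y).card = Nat.card (fixedPoints (pairStab G a b) Ω) - 1 := by
    intro y hy
    rw [Finset.card_erase_of_mem (Finset.mem_filter.2
      ⟨Finset.mem_univ _, fun k hk => hk.1⟩)]
    congr 1
    obtain ⟨k, hka, hkb⟩ := h2 a b x y hab (hne y hy)
    rw [← Fintype.card_subtype, ← Nat.card_eq_fintype_card]
    symm
    refine Nat.card_congr ((MulAction.toPerm k).subtypeEquiv fun w => ?_)
    subst hka hkb
    constructor
    · intro hw m hm
      have h1 : k⁻¹ * m * k ∈ pairStab G a b := by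
        rw [← conj_mem_pairStab (k := k)]; simpa [mul_assoc] using hm
      have h3 : (k⁻¹ * m * k) • w = w := hw ⟨_, h1⟩
      rw [mul_smul, mul_smul, inv_smul_eq_iff] at h3
      exact h3
    · intro hw m
      have h3 := hw _ (conj_mem_pairStab.2 m.2)
      simp only [MulAction.toPerm_apply, mul_smul, inv_smul_smul, smul_left_cancel_iff] at h3
      exact h3
  have hdisj : (Φ : Set Ω).PairwiseDisjoint line := by
    intro y hy y' hy' hyy
    rw [Function.onFun, Finset.disjoint_left]
    intro z hz hz'
    simp only [line, Finset.mem_erase, Finset.mem_filter, Finset.mem_univ, true_and] at hz hz'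
    have e1 := pairStab_eq_of_fixed h2 (hne y hy) (Ne.symm hz.1) (fun k hk => hk.1) hz.2
    have e2 := pairStab_eq_of_fixed h2 (hne y' hy') (Ne.symm hz'.1) (fun k hk => hk.1) hz'.2
    have e3 := pairStab_eq_of_fixed h2 (hne y hy) hyy (fun k hk => hk.2)
      (fun k hk => (e1.trans e2.symm ▸ hk : k ∈ pairStab G x y').2)
    have : g ∈ pairStab G x y := e3 ▸
      ⟨(Finset.mem_filter.1 hy).2, (Finset.mem_filter.1 hy').2⟩
    exact hx this.1
  have hb : (Φ.biUnion line) ⊆ Finset.univ.erase x := by
    intro z hz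
    obtain ⟨y, -, hz⟩ := Finset.mem_biUnion.1 hz
    exact Finset.mem_erase.2 ⟨(Finset.mem_erase.1 hz).1, Finset.mem_univ _⟩
  have h := Finset.card_le_card hb
  rw [Finset.card_biUnion hdisj, Finset.sum_congr rfl hcard, Finset.sum_const, smul_eq_mul,
    Finset.card_erase_of_mem (Finset.mem_univ x), Finset.card_univ] at h
  rwa [fx, Nat.card_eq_fintype_card, Fintype.card_subtype]

/-- Orbit count: `n + f = 2 N + E`, with `E` bounding every excess `|orbit| - 2`. -/
theorem orbit_stats (H : Subgroup G) :
    ∃ E, Fintype.card Ω + Nat.card (fixedPoints H Ω) =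
        2 * Nat.card (orbitRel.Quotient H Ω) + E ∧
      (∀ x : Ω, Nat.card (orbit H x) ≤ 2 + E) ∧
      (0 < E → ∃ x : Ω, 3 ≤ Nat.card (orbit H x)) ∧
      ∀ x y : Ω, y ∉ orbit H x →
        (Nat.card (orbit H x) - 2) + (Nat.card (orbit H y) - 2) ≤ E := by
  classical
  letI : Fintype (orbitRel.Quotient H Ω) := Fintype.ofFinite _
  let s : orbitRel.Quotient H Ω → ℕ := fun q => Nat.card q.orbit
  have hs : ∀ x : Ω, s (Quotient.mk'' x) = Nat.card (orbit H x) := fun x => rfl
  have hsum : Fintype.card Ω = ∑ q, s q := by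
    rw [← Nat.card_eq_fintype_card, Nat.card_congr (selfEquivSigmaOrbits' H Ω), Nat.card_sigma]
  have hs1 : ∀ q, 1 ≤ s q := by
    intro q
    induction q using Quotient.inductionOn' with
    | _ x => rw [hs]; exact Nat.card_pos_iff.2 ⟨⟨⟨x, mem_orbit_self x⟩⟩, inferInstance⟩
  have hfix : Nat.card (fixedPoints H Ω) = (Finset.univ.filter fun q => s q = 1).card := by
    rw [Nat.card_eq_fintype_card, Fintype.card_ofFinset]
    refine Finset.card_bij (fun x _ => (Quotient.mk'' x : orbitRel.Quotient H Ω)) ?_ ?_ ?_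
    · intro x hx
      simp only [Finset.mem_filter, Finset.mem_univ, true_and, hs] at hx ⊢
      rw [Nat.card_coe_set_eq, ((subsingleton_orbit_iff_mem_fixedPoints.2 hx).eq_singleton_of_mem
        (mem_orbit_self x)), Set.ncard_singleton]
    · intro x hx y hy h
      simp only [Finset.mem_filter, Finset.mem_univ, true_and] at hx hy
      obtain ⟨k, hk⟩ := Quotient.exact' h
      rw [← hk]; exact hy k
    · intro q hq
      induction q using Quotient.inductionOn' with
      | _ x =>
        simp only [Finset.mem_filter, Finset.mem_univ, true_and, hs] at hq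
        refine ⟨x, ?_, rfl⟩
        simp only [Finset.mem_filter, Finset.mem_univ, true_and]
        rw [← subsingleton_orbit_iff_mem_fixedPoints]
        rw [Nat.card_coe_set_eq] at hq
        exact Set.ncard_le_one_iff_subsingleton.1 hq.le
  refine ⟨∑ q, (s q - 2), ?_, ?_, ?_, ?_⟩
  · rw [hsum, hfix, Finset.card_filter, Nat.card_eq_fintype_card, ← Finset.card_univ,
      Finset.card_eq_sum_ones, Finset.mul_sum, ← Finset.sum_add_distrib, ← Finset.sum_add_distrib]
    refine Finset.sum_congr rfl fun q _ => ?_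
    have := hs1 q
    split_ifs with h <;> omega
  · intro x
    have := Finset.single_le_sum (f := fun q => s q - 2) (fun q _ => Nat.zero_le _)
      (Finset.mem_univ (Quotient.mk'' x : orbitRel.Quotient H Ω))
    simp only [hs] at this
    omega
  · intro hE
    obtain ⟨q, -, hq⟩ := Finset.exists_ne_zero_of_sum_ne_zero hE.ne'
    induction q using Quotient.inductionOn' with
    | _ x => rw [hs] at hq; exact ⟨x, by omega⟩
  · intro x y hy
    have hne : (Quotient.mk'' x : orbitRel.Quotient H Ω) ≠ Quotient.mk'' y := fun h =>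
      hy (Quotient.exact' h.symm)
    rw [← hs x, ← hs y, ← Finset.sum_pair (f := fun q => s q - 2) hne]
    exact Finset.sum_le_sum_of_subset (Finset.subset_univ _)

/-- The sum of `n / fix g - 1` over a two-point stabiliser is at least its order. -/
theorem card_le_weight [FaithfulSMul G Ω] [IsPretransitive G Ω] (h2 : TwoTrans G Ω)
    (hn : 7 ≤ Fintype.card Ω)
    (hcardG : ∀ a b : Ω, a ≠ b →
      Nat.card G = Fintype.card Ω * (Fintype.card Ω - 1) * Nat.card (pairStab G a b))
    (W : ℚ) (hW : ∀ a b : Ω, a ≠ b → ∀ [Fintype (pairStab G a b)],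
      W = ∑ g : pairStab G a b, ((Fintype.card Ω : ℚ) / fx Ω (g : G) - 1))
    {a b : Ω} (hab : a ≠ b) (hh : 2 ≤ Nat.card (pairStab G a b)) :
    (Nat.card (pairStab G a b) : ℚ) ≤ W := by
  classical
  by_contra hfail
  rw [not_le] at hfail
  set n := Fintype.card Ω with hndef
  set h := Nat.card (pairStab G a b) with hhdef
  have hc : ∀ c x : Ω, c ≠ x → Nat.card (pairStab G c x) = h := fun c x hcx =>
    card_pairStab_eq h2 hcx hab
  have hhQ : (2 : ℚ) ≤ h := by exact_mod_cast hh
  have hnQ : (7 : ℚ) ≤ n := by exact_mod_cast hn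
  -- the structure of every two-point stabiliser
  have key : ∀ c d : Ω, c ≠ d →
      (∀ x : Ω, Nat.card (orbit (pairStab G c d) x) ≤ 2) ∧ (h = 2 → n = 7) := by
    intro c d hcd
    set H := pairStab G c d with hH
    letI : Fintype H := Fintype.ofFinite _
    have hWH := hW c d hcd
    have hhH : Fintype.card H = h := by rw [← Nat.card_eq_fintype_card]; exact hc c d hcd
    set f := Nat.card (fixedPoints H Ω) with hf
    have hf2 : 2 ≤ f := by
      rw [hf, Nat.card_coe_set_eq, ← Set.ncard_pair hcd]
      refine Set.ncard_le_ncard ?_ (Set.toFinite _)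
      rintro x (rfl | rfl)
      · exact fun k => k.2.1
      · exact fun k => k.2.2
    set S := Finset.univ.erase (1 : H) with hS
    have hScard : (S.card : ℚ) = h - 1 := by
      rw [hS, Finset.card_erase_of_mem (Finset.mem_univ _), Finset.card_univ, hhH,
        Nat.cast_sub (by omega), Nat.cast_one]
    have hWS : W = ∑ g ∈ S, ((n : ℚ) / fx Ω (g : G) - 1) := by
      rw [hWH, ← Finset.add_sum_erase _ _ (Finset.mem_univ (1 : H)), Subgroup.coe_one, fx_one,
        div_self (by positivity), sub_self, zero_add]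
    have hpos : ∀ g : H, (0 : ℚ) < fx Ω (g : G) := fun g => by
      exact_mod_cast lt_of_lt_of_le zero_lt_two (two_le_fx hcd g.2)
    have hbound : ∀ g ∈ S, fx Ω (g : G) * (f - 1) ≤ n - 1 := fun g hg =>
      fx_mul_le h2 hcd g.2 fun e => (Finset.mem_erase.1 hg).1 (Subtype.ext e)
    -- the Steiner bound
    have hf3 : f ≤ 3 := by
      by_contra hf4
      have : ∀ g ∈ S, (2 : ℚ) ≤ (n : ℚ) / fx Ω (g : G) - 1 := by
        intro g hg
        have h1 : fx Ω (g : G) * 3 ≤ n := le_trans
          (le_trans (Nat.mul_le_mul_left _ (by omega)) (hbound g hg)) (Nat.sub_le _ _)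
        have h1' : (fx Ω (g : G) : ℚ) * 3 ≤ n := by exact_mod_cast h1
        rw [le_sub_iff_add_le, le_div_iff₀ (hpos g)]
        linarith
      have := Finset.card_nsmul_le_sum S _ _ this
      rw [nsmul_eq_mul, hScard, ← hWS] at this
      linarith
    have hf3h : f = 3 → 2 * h ≤ n := by
      intro e
      by_contra hlt
      have hlt' : (n : ℚ) + 1 ≤ 2 * h := by exact_mod_cast (not_le.1 hlt)
      have : ∀ g ∈ S, 2 * (n : ℚ) / ((n : ℚ) - 1) - 1 ≤ (n : ℚ) / fx Ω (g : G) - 1 := by
        intro g hg
        have h1 := hbound g hg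
        rw [e] at h1
        have h1' : (fx Ω (g : G) : ℚ) * 2 + 1 ≤ n := by exact_mod_cast (by omega : fx Ω (g : G) * 2 + 1 ≤ n)
        gcongr ?_ - 1
        rw [div_le_div_iff₀ (by linarith) (hpos g)]
        nlinarith
      have hsum := Finset.card_nsmul_le_sum S _ _ this
      rw [nsmul_eq_mul, hScard, ← hWS] at hsum
      have hid : ((h : ℚ) - 1) * (2 * n / (n - 1) - 1) - h = (2 * h - n - 1) / (n - 1) := by
        have : (n : ℚ) - 1 ≠ 0 := by linarith
        field_simp
        ring
      have : (0 : ℚ) ≤ (2 * h - n - 1) / (n - 1) := div_nonneg (by linarith) (by linarith)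
      linarith
    -- Cauchy
    obtain ⟨E, hE, hE1, hE3, hE2⟩ := orbit_stats (Ω := Ω) H
    set N := Nat.card (orbitRel.Quotient H Ω) with hN
    have hburn : ∑ g : H, fx Ω (g : G) = N * h := by
      letI : Fintype (orbitRel.Quotient H Ω) := Fintype.ofFinite _
      have := sum_card_fixedBy_eq_card_orbits_mul_card_group H Ω
      simp only [← Nat.card_eq_fintype_card] at this
      rw [← hc c d hcd]
      exact this
    have hsumfx : ∑ g ∈ S, (fx Ω (g : G) : ℚ) = N * h - n := by
      have e : ∑ g : H, (fx Ω (g : G) : ℚ) = N * h := by exact_mod_cast hburn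
      rw [← Finset.add_sum_erase _ _ (Finset.mem_univ (1 : H)), Subgroup.coe_one, fx_one] at e
      rw [hS]; linarith
    have hSpos : (0 : ℚ) < N * h - n := by
      rw [← hsumfx]
      refine Finset.sum_pos (fun g _ => hpos g) ?_
      rw [← Finset.card_pos]
      have : (0 : ℚ) < S.card := by rw [hScard]; linarith
      exact_mod_cast this
    have hcauchy : ((h : ℚ) - 1) ^ 2 / (N * h - n) ≤ ∑ g ∈ S, 1 / (fx Ω (g : G) : ℚ) := by
      have := Finset.sq_sum_div_le_sum_sq_div S (fun _ => (1 : ℚ)) fun g _ => hpos g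
      simpa [hScard, hsumfx] using this
    have hW2 : W = n * ∑ g ∈ S, 1 / (fx Ω (g : G) : ℚ) - (h - 1) := by
      rw [hWS, Finset.sum_sub_distrib, Finset.sum_const, nsmul_eq_mul, mul_one, hScard,
        Finset.mul_sum]
      simp only [mul_one_div]
    have hNh : (n : ℚ) * h < (2 * h - 1) * N := by
      have h1 : (n : ℚ) * (((h : ℚ) - 1) ^ 2 / (N * h - n)) < 2 * h - 1 := by
        have := mul_le_mul_of_nonneg_left hcauchy (show (0 : ℚ) ≤ n by positivity)
        linarith
      rw [mul_div_assoc', div_lt_iff₀ hSpos] at h1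
      refine lt_of_mul_lt_mul_left ?_ (show (0 : ℚ) ≤ h by positivity)
      nlinarith
    have hEQ : (n : ℚ) + f = 2 * N + E := by exact_mod_cast hE
    have hmain : (n : ℚ) < (2 * h - 1) * ((f : ℚ) - E) := by
      have : (N : ℚ) = ((n : ℚ) + f - E) / 2 := by linarith
      rw [this] at hNh
      nlinarith
    have hlt : E < f := by
      by_contra hc'
      have : (f : ℚ) ≤ E := by exact_mod_cast (not_lt.1 hc')
      nlinarith
    have hEle : E ≤ 1 := by
      by_contra hc'
      have hf' : f = 3 := by omega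
      have hE' : E = 2 := by omega
      have h2h : (2 : ℚ) * h ≤ n := by exact_mod_cast hf3h hf'
      rw [hf', hE'] at hmain
      push_cast at hmain
      linarith
    have hE0 : E = 0 := by
      by_contra hne
      have hE' : E = 1 := by omega
      have hthree : ∃ x : Ω, Nat.card (orbit H x) = 3 := by
        obtain ⟨x, hx⟩ := hE3 (by omega)
        exact ⟨x, by have := hE1 x; omega⟩
      obtain ⟨x, hx⟩ := hthree
      refine not_exceptional_three_orbit h2 (by rw [Nat.card_eq_fintype_card]; omega) hcd hx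
        fun y hy => ?_
      have h3 := hE2 x y hy
      show Nat.card (orbit H y) ≤ 2
      have hx' : Nat.card (orbit H x) = 3 := hx
      omega
    refine ⟨fun x => by have := hE1 x; omega, fun hh2 => ?_⟩
    rw [hh2, hE0] at hmain
    push_cast at hmain
    have : n < 3 * f := by exact_mod_cast (by linarith : (n : ℚ) < 3 * f)
    omega
  have hsmall := fun c d hcd => (key c d hcd).1
  have hle : h ≤ 3 := card_le_three_of_small_orbits h2 hsmall hab
  have hne3 : h ≠ 3 := by
    intro e
    haveI : Fact (Nat.Prime 3) := ⟨Nat.prime_three⟩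
    obtain ⟨u, hu⟩ := exists_prime_orderOf_dvd_card' (G := pairStab G a b) 3 (by rw [← hhdef, e])
    have : (u : G) ^ 2 = 1 := by rw [pow_two]; exact mul_self_eq_one (hsmall a b hab) u.2
    have := orderOf_dvd_of_pow_eq_one this
    rw [Subgroup.orderOf_coe, hu] at this
    omega
  have h7 : n = 7 := (key a b hab).2 (by omega)
  refine not_degree_seven (G := G) ?_ (by rw [Nat.card_eq_fintype_card, ← hndef, h7]) hab (by omega)
  rw [hcardG a b hab, h7, ← hhdef, show h = 2 by omega]

end Cfsg.Agent.DerangeTwo
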