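import Mathlib.GroupTheory.GroupAction.Jordan
import Mathlib.GroupTheory.Perm.Cycle.Type
import Mathlib.GroupTheory.SpecificGroups.Alternating
import Mathlib.GroupTheory.Index
import Mathlib.GroupTheory.Sylow

/-!
Two-point stabilisers of a 2-transitive group.
-/

set_option autoImplicit false
set_option linter.style.haveILetI false

namespace Cfsg.Agent.DerangeTwo

open MulAction

variable {G Ω : Type*} [Group G] [MulAction G Ω]

/-- The pointwise stabiliser of two points. -/
def pairStab (G : Type*) {Ω : Type*} [Group G] [MulAction G Ω] (a b : Ω) : Subgroup G :=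
  stabilizer G a ⊓ stabilizer G b

theorem mem_pairStab {g : G} {a b : Ω} : g ∈ pairStab G a b ↔ g • a = a ∧ g • b = b := Iff.rfl

/-- Transitivity on ordered pairs of distinct points. -/
def TwoTrans (G Ω : Type*) [Group G] [MulAction G Ω] : Prop :=
  ∀ a b c d : Ω, a ≠ b → c ≠ d → ∃ g : G, g • a = c ∧ g • b = d

theorem conj_mem_pairStab {g k : G} {a b : Ω} :
    k * g * k⁻¹ ∈ pairStab G (k • a) (k • b) ↔ g ∈ pairStab G a b := by
  simp [mem_pairStab, mul_smul, smul_left_cancel_iff]

theorem card_pairStab_eq (h2 : TwoTrans G Ω) {a b c d : Ω} (hab : a ≠ b) (hcd : c ≠ d) :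
    Nat.card (pairStab G a b) = Nat.card (pairStab G c d) := by
  obtain ⟨k, rfl, rfl⟩ := h2 a b c d hab hcd
  exact Nat.card_congr ((MulAut.conj k).toEquiv.subtypeEquiv fun g => conj_mem_pairStab.symm)

/-- Two fixed points of a two-point stabiliser determine it. -/
theorem pairStab_eq_of_fixed [Finite G] (h2 : TwoTrans G Ω) {a b c d : Ω} (hab : a ≠ b)
    (hcd : c ≠ d) (hc : ∀ g ∈ pairStab G a b, g • c = c)
    (hd : ∀ g ∈ pairStab G a b, g • d = d) : pairStab G a b = pairStab G c d :=
  Subgroup.eq_of_le_of_card_ge (fun g hg => ⟨hc g hg, hd g hg⟩) (card_pairStab_eq h2 hcd hab).le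

theorem mul_self_eq_one [FaithfulSMul G Ω] [Finite Ω] {H : Subgroup G}
    (hH : ∀ x : Ω, Nat.card (orbit H x) ≤ 2) {g : G} (hg : g ∈ H) : g * g = 1 := by
  apply FaithfulSMul.eq_of_smul_eq_smul (α := Ω)
  intro x
  rw [one_smul, mul_smul]
  by_contra hne
  have h1 : g • x ≠ x := fun h => hne (by rw [h, h])
  have h2 : g • g • x ≠ g • x := fun h => h1 (smul_left_cancel g h)
  have hm : ∀ k : H, (k : G) • x ∈ orbit H x := fun k => ⟨k, rfl⟩
  have : 3 ≤ (orbit H x).ncard := by
    have hs : ({x, g • x, g • g • x} : Set Ω) ⊆ orbit H x := by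
      rintro y (rfl | rfl | rfl)
      · exact mem_orbit_self _
      · exact hm ⟨g, hg⟩
      · rw [← mul_smul]; exact hm ⟨g * g, mul_mem hg hg⟩
    refine le_trans ?_ (Set.ncard_le_ncard hs (Set.toFinite _))
    rw [Set.ncard_eq_three.2 ⟨x, g • x, g • g • x, h1.symm, Ne.symm hne, h2.symm, rfl⟩]
  have := hH x
  rw [Nat.card_coe_set_eq] at this
  omega

theorem commute_of_small_orbits [FaithfulSMul G Ω] [Finite Ω] {H : Subgroup G}
    (hH : ∀ x : Ω, Nat.card (orbit H x) ≤ 2) {g k : G} (hg : g ∈ H) (hk : k ∈ H) :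
    g * k = k * g := by
  have e : ∀ u ∈ H, u⁻¹ = u := fun u hu => inv_eq_of_mul_eq_one_right (mul_self_eq_one hH hu)
  calc g * k = (g * k)⁻¹ := (e _ (mul_mem hg hk)).symm
    _ = k * g := by rw [mul_inv_rev, e g hg, e k hk]

theorem card_le_two_mul_inf_stabilizer [Finite G] {H : Subgroup G} {x : Ω}
    (hH : Nat.card (orbit H x) ≤ 2) :
    Nat.card H ≤ 2 * Nat.card (H ⊓ stabilizer G x : Subgroup G) := by
  have e : Nat.card (stabilizer H x) = Nat.card (H ⊓ stabilizer G x : Subgroup G) :=
    Nat.card_congr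
      { toFun := fun h => ⟨h.1.1, h.1.2, h.2⟩
        invFun := fun h => ⟨⟨h.1, h.2.1⟩, h.2.2⟩
        left_inv := fun _ => rfl
        right_inv := fun _ => rfl }
  rw [← e, ← Subgroup.card_mul_index (stabilizer H x), index_stabilizer, ← Nat.card_coe_set_eq,
    mul_comm]
  exact Nat.mul_le_mul_right _ hH

theorem two_mul_card_le_of_lt [Finite G] {D H : Subgroup G} (h : D < H) :
    2 * Nat.card D ≤ Nat.card H := by
  obtain ⟨k, hk⟩ := Subgroup.card_dvd_of_le h.le
  have hlt : Nat.card D < Nat.card H := by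
    by_contra hc
    exact h.ne (Subgroup.eq_of_le_of_card_ge h.le (not_lt.1 hc))
  rw [hk] at hlt ⊢
  rw [mul_comm]
  refine Nat.mul_le_mul_left _ ?_
  by_contra hc
  interval_cases k <;> omega

/-- If all two-point stabilisers have orbits of length at most 2 they have order at most 3. -/
theorem card_le_three_of_small_orbits [FaithfulSMul G Ω] [Finite G] [Finite Ω] (h2 : TwoTrans G Ω)
    (hsmall : ∀ a b : Ω, a ≠ b → ∀ x : Ω, Nat.card (orbit (pairStab G a b) x) ≤ 2)
    {a b : Ω} (hab : a ≠ b) : Nat.card (pairStab G a b) ≤ 3 := by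
  by_contra hh
  set h := Nat.card (pairStab G a b) with hhdef
  have hc : ∀ c x, c ≠ x → Nat.card (pairStab G c x) = h := fun c x hcx =>
    card_pairStab_eq h2 hcx hab
  -- stabilisers through a common point commute
  have hcomm : ∀ c x y : Ω, c ≠ x → c ≠ y →
      pairStab G c y ≤ Subgroup.centralizer (pairStab G c x : Set G) := by
    intro c x y hcx hcy
    by_cases heq : pairStab G c x = pairStab G c y
    · rw [← heq]
      exact fun g hg k hk => commute_of_small_orbits (hsmall c x hcx) hk hg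
    set D := pairStab G c x ⊓ pairStab G c y with hD
    have hDeq : D = pairStab G c x ⊓ stabilizer G y := by
      ext g
      simp only [hD, Subgroup.mem_inf, mem_pairStab, mem_stabilizer_iff]
      tauto
    have hDge : h ≤ 2 * Nat.card D := by
      rw [hDeq, ← hc c x hcx]
      exact card_le_two_mul_inf_stabilizer (hsmall c x hcx y)
    have hDlt : ∀ K : Subgroup G, D ≤ K → Nat.card K = h → D ≠ K → 2 * Nat.card D ≤ h :=
      fun K hK hcK hne => hcK ▸ two_mul_card_le_of_lt (lt_of_le_of_ne hK hne)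
    have hne : D ≠ pairStab G c x := by
      intro e
      refine heq (Subgroup.eq_of_le_of_card_ge ?_ (by rw [hc c x hcx, hc c y hcy]))
      rw [← e]; exact inf_le_right
    have hDcard : 2 * Nat.card D = h :=
      le_antisymm (hDlt _ inf_le_left (hc c x hcx) hne) hDge
    have hDbot : D ≠ ⊥ := by
      intro e
      rw [e, Subgroup.card_bot] at hDcard
      omega
    obtain ⟨z, hz⟩ : ∃ z : Ω, ¬ D ≤ stabilizer G z := by
      by_contra hall
      push Not at hall
      refine hDbot (eq_bot_iff.2 fun g hg => Subgroup.mem_bot.2 ?_)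
      exact FaithfulSMul.eq_of_smul_eq_smul (α := Ω) fun w => by
        rw [one_smul]; exact hall w hg
    have hcz : c ≠ z := fun e => hz fun g hg => e ▸ (Subgroup.mem_inf.1 hg).1.1
    -- each of the two stabilisers is generated by `D` and its intersection with the third
    have hgen : ∀ w, c ≠ w → D ≤ pairStab G c w →
        D ⊔ (pairStab G c w ⊓ stabilizer G z) = pairStab G c w := by
      intro w hcw hDw
      set A := pairStab G c w ⊓ stabilizer G z
      have hA : h ≤ 2 * Nat.card A := by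
        rw [← hc c w hcw]
        exact card_le_two_mul_inf_stabilizer (hsmall c w hcw z)
      refine Subgroup.eq_of_le_of_card_ge (sup_le hDw inf_le_left) ?_
      rw [hc c w hcw, ← hDcard]
      refine two_mul_card_le_of_lt (lt_of_le_of_ne le_sup_left fun e => hz ?_)
      have hAD : A ≤ D := e ▸ le_sup_right
      have : A = D := Subgroup.eq_of_le_of_card_ge hAD (by omega)
      rw [← this]; exact inf_le_right
    have hab' : ∀ w, c ≠ w → ∀ g ∈ pairStab G c w, ∀ k ∈ pairStab G c w, k * g = g * k :=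
      fun w hcw g hg k hk => commute_of_small_orbits (hsmall c w hcw) hk hg
    rw [← hgen y hcy inf_le_right, ← hgen x hcx inf_le_left, sup_le_iff]
    constructor
    · rw [Subgroup.le_centralizer_iff, sup_le_iff]
      exact ⟨fun g hg k hk => hab' x hcx g hg.1 k hk.1,
        fun g hg k hk => hab' x hcx g hg.1 k hk.1⟩
    · rw [Subgroup.le_centralizer_iff, sup_le_iff]
      refine ⟨fun g hg k hk => hab' y hcy g hg.2 k hk.1, fun g hg k hk => ?_⟩
      exact hab' z hcz g ⟨hg.1.1, hg.2⟩ k ⟨hk.1.1, hk.2⟩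
  have hbot : pairStab G a b = ⊥ := by
    refine eq_bot_iff.2 fun g hg => Subgroup.mem_bot.2 ?_
    refine FaithfulSMul.eq_of_smul_eq_smul (α := Ω) fun x => ?_
    rw [one_smul]
    by_contra hne
    have hxa : a ≠ x := fun e => hne (e ▸ hg.1)
    have hxb : b ≠ x := fun e => hne (e ▸ hg.2)
    have hfix : ∀ c w, c ≠ w → c ≠ x → g ∈ pairStab G c w →
        ∀ k ∈ pairStab G c x, k • g • x = g • x := by
      intro c w hcw hcx hgc k hk
      rw [← mul_smul, hcomm c x w hcx hcw hgc k hk, mul_smul,
        (mem_pairStab.1 hk).2]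
    have h1 := pairStab_eq_of_fixed h2 hxa (Ne.symm hne) (fun k hk => hk.2)
      (hfix a b hab hxa hg)
    have h3 := pairStab_eq_of_fixed h2 hxb (Ne.symm hne) (fun k hk => hk.2)
      (hfix b a hab.symm hxb ⟨hg.2, hg.1⟩)
    have h4 : pairStab G a x = pairStab G a b :=
      pairStab_eq_of_fixed h2 hxa hab (fun k hk => hk.1)
        (fun k hk => (h1.trans h3.symm ▸ hk : k ∈ pairStab G b x).1)
    rw [← h4] at hg
    exact hne hg.2
  rw [hhdef, hbot, Subgroup.card_bot] at hh
  omega

/-- A two-point stabiliser cannot have one orbit of length 3 and all others of length at most 2. -/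
theorem not_exceptional_three_orbit [FaithfulSMul G Ω] [Finite G] [Finite Ω]
    (h2 : TwoTrans G Ω) (hn : 7 ≤ Nat.card Ω) {a b x : Ω} (hab : a ≠ b)
    (hx : Nat.card (orbit (pairStab G a b) x) = 3)
    (hother : ∀ y, y ∉ orbit (pairStab G a b) x → Nat.card (orbit (pairStab G a b) y) ≤ 2) :
    False := by
  classical
  haveI := Fintype.ofFinite Ω
  set H := pairStab G a b with hH
  set O := orbit H x with hO
  haveI : Fact (Nat.Prime 3) := ⟨Nat.prime_three⟩
  have h3 : 3 ∣ Nat.card H := by
    have := (stabilizer H x).index_dvd_card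
    rwa [index_stabilizer, ← Nat.card_coe_set_eq, hx] at this
  obtain ⟨u, hu⟩ := exists_prime_orderOf_dvd_card' 3 h3
  -- `u` moves only points of `O`
  have hfixu : ∀ y, y ∉ O → u • y = y := by
    intro y hy
    by_contra hne
    have h1 : u • u • y ≠ u • y := fun h => hne (smul_left_cancel u h)
    have h2' : u • u • y ≠ y := fun h => hne (by
      have e : u ^ 3 • y = y := by rw [← hu, pow_orderOf_eq_one, one_smul]
      rw [pow_succ', pow_two, mul_smul, mul_smul, h] at e
      exact e)
    have hle : ({y, u • y, u • u • y} : Set Ω).ncard ≤ Nat.card (orbit H y) := by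
      rw [Nat.card_coe_set_eq]
      refine Set.ncard_le_ncard ?_ (Set.toFinite _)
      rintro w (rfl | rfl | rfl)
      · exact mem_orbit_self _
      · exact mem_orbit _ _
      · exact mem_orbit_of_mem_orbit _ (mem_orbit _ _)
    rw [Set.ncard_eq_three.2 ⟨y, u • y, u • u • y, Ne.symm hne, h2'.symm, h1.symm, rfl⟩] at hle
    have := hother y hy
    omega
  let ρ := toPermHom G Ω
  have hρ : Function.Injective ρ := toPerm_injective
  set σ := ρ (u : G) with hσ
  have hσ3 : orderOf σ = 3 := by rw [hσ, orderOf_injective ρ hρ, Subgroup.orderOf_coe, hu]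
  have hsupp : σ.support.card ≤ 3 := by
    rw [← Set.ncard_coe_finset, ← hx, Nat.card_coe_set_eq]
    refine Set.ncard_le_ncard (fun y hy => ?_) (Set.toFinite _)
    by_contra hc
    exact Equiv.Perm.mem_support.1 hy (hfixu y hc)
  have hcyc : σ.IsThreeCycle := by
    rw [← _root_.card_support_eq_three_iff]
    have h0 : σ.support.card ≠ 0 := by
      rw [Finset.card_ne_zero, Finset.nonempty_iff_ne_empty, ne_eq,
        Equiv.Perm.support_eq_empty_iff]
      intro e; rw [e, orderOf_one] at hσ3; omega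
    have h1 := Equiv.Perm.card_support_ne_one σ
    have h2' : σ.support.card ≠ 2 := by
      intro e
      rw [Equiv.Perm.card_support_eq_two] at e
      rw [e.orderOf] at hσ3; omega
    omega
  have hprim : IsPreprimitive ρ.range Ω := by
    refine isPreprimitive_of_is_two_pretransitive (is_two_pretransitive_iff.2 ?_)
    intro p q r s hpq hrs
    obtain ⟨g, hg1, hg2⟩ := h2 p q r s hpq hrs
    exact ⟨⟨ρ g, g, rfl⟩, hg1, hg2⟩
  have hA := Equiv.Perm.alternatingGroup_le_of_isPreprimitive_of_isThreeCycle_mem hprim hcyc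
    ⟨_, rfl⟩
  -- a 3-cycle fixing `a` and `b` leaves `O`
  have hpick : ∀ s : Set Ω, s.ncard < 7 → ∃ w, w ∉ s := by
    intro s hs
    by_contra hc
    push Not at hc
    rw [Set.eq_univ_of_forall hc, Set.ncard_univ] at hs
    omega
  have hOcard : O.ncard = 3 := by rw [← Nat.card_coe_set_eq]; exact hx
  obtain ⟨y, hy⟩ := hpick (O ∪ {a, b}) (by
    have := Set.ncard_union_le O {a, b}
    have := Set.ncard_pair hab
    omega)
  obtain ⟨z, hz⟩ := hpick (O ∪ {a, b, y}) (by
    have := Set.ncard_union_le O {a, b, y}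
    have := Set.ncard_insert_le a {b, y}
    have := Set.ncard_insert_le b ({y} : Set Ω)
    have := Set.ncard_singleton y
    omega)
  simp only [Set.mem_union, Set.mem_insert_iff, Set.mem_singleton_iff, not_or] at hy hz
  have hxa : x ≠ a := by
    rintro rfl
    have hs : O.Subsingleton :=
      subsingleton_orbit_iff_mem_fixedPoints.2 fun k : H => k.2.1
    have := Set.ncard_le_one_iff_subsingleton.2 hs
    omega
  have hxb : x ≠ b := by
    rintro rfl
    have hs : O.Subsingleton :=
      subsingleton_orbit_iff_mem_fixedPoints.2 fun k : H => k.2.2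
    have := Set.ncard_le_one_iff_subsingleton.2 hs
    omega
  have hxy : x ≠ y := fun e => hy.1 (e ▸ mem_orbit_self x)
  have hxz : x ≠ z := fun e => hz.1 (e ▸ mem_orbit_self x)
  set τ := Equiv.swap x y * Equiv.swap y z with hτ
  have hτA : τ ∈ alternatingGroup Ω := by
    rw [Equiv.Perm.mem_alternatingGroup, hτ, map_mul, Equiv.Perm.sign_swap hxy,
      Equiv.Perm.sign_swap (Ne.symm hz.2.2.2)]
    simp
  obtain ⟨g, hg⟩ := hA hτA
  have happ : ∀ w, g • w = τ w := fun w => by rw [← hg]; rfl
  have hfix : ∀ w, w ≠ x → w ≠ y → w ≠ z → g • w = w := fun w h1 h3 h4 => by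
    rw [happ, hτ, Equiv.Perm.mul_apply, Equiv.swap_apply_of_ne_of_ne h3 h4,
      Equiv.swap_apply_of_ne_of_ne h1 h3]
  have hgH : g ∈ H := ⟨hfix a hxa.symm (Ne.symm hy.2.1) (Ne.symm hz.2.1),
    hfix b hxb.symm (Ne.symm hy.2.2) (Ne.symm hz.2.2.1)⟩
  refine hy.1 ⟨⟨g, hgH⟩, ?_⟩
  show g • x = y
  rw [happ, hτ, Equiv.Perm.mul_apply, Equiv.swap_apply_of_ne_of_ne hxy hxz,
    Equiv.swap_apply_left]

/-- No 2-transitive group of degree 7 has a two-point stabiliser of order 2. -/
theorem not_degree_seven [FaithfulSMul G Ω] [Finite G] [Finite Ω] [IsPretransitive G Ω]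
    (hG : Nat.card G = 84) (hn : Nat.card Ω = 7) {a b : Ω} (hab : a ≠ b)
    (hh : Nat.card (pairStab G a b) = 2) : False := by
  haveI : Fact (Nat.Prime 7) := ⟨by decide⟩
  obtain ⟨P⟩ : Nonempty (Sylow 7 G) := inferInstance
  have hPc : Nat.card (P : Subgroup G) = 7 := by
    rw [P.card_eq_multiplicity, hG]
    have : (84 : ℕ).factorization 7 = 1 := by
      rw [show (84 : ℕ) = 7 * 12 by norm_num, Nat.factorization_mul (by norm_num) (by norm_num),
        Finsupp.add_apply, Nat.Prime.factorization_self (by decide),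
        Nat.factorization_eq_zero_of_not_dvd (by norm_num : ¬ 7 ∣ 12)]
    rw [this, pow_one]
  have hone : Nat.card (Sylow 7 G) = 1 := by
    have h1 : Nat.card (Sylow 7 G) ∣ 12 := by
      have := P.card_dvd_index
      have h3 := (P : Subgroup G).card_mul_index
      rw [hPc, hG] at h3
      rwa [show (P : Subgroup G).index = 12 by omega] at this
    have h2 := card_sylow_modEq_one 7 G
    have h3 : Nat.card (Sylow 7 G) ≤ 12 := Nat.le_of_dvd (by norm_num) h1
    have h4 : Nat.card (Sylow 7 G) % 7 = 1 := h2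
    interval_cases (Nat.card (Sylow 7 G)) <;> omega
  haveI : Subsingleton (Sylow 7 G) := (Nat.card_eq_one_iff_unique.1 hone).1
  haveI hPn : (P : Subgroup G).Normal := Sylow.normal_of_subsingleton P
  set N := (P : Subgroup G)
  have hprime : ∀ q ∈ N, q ≠ 1 → Subgroup.zpowers q = N := by
    intro q hq hq1
    refine Subgroup.eq_of_le_of_card_ge (Subgroup.zpowers_le.2 hq) ?_
    rw [hPc, Nat.card_zpowers]
    have := Subgroup.orderOf_dvd_natCard N hq
    rw [hPc] at this
    rcases (Nat.dvd_prime (by decide)).1 this with h | h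
    · exact absurd (orderOf_eq_one_iff.1 h) hq1
    · omega
  -- `N` is regular
  have hreg : ∀ q ∈ N, q • a = a → q = 1 := by
    intro q hq hqa
    by_contra hq1
    have hN : ∀ m ∈ N, m • a = a := fun m hm => by
      rw [← hprime q hq hq1] at hm
      obtain ⟨k, rfl⟩ := Subgroup.mem_zpowers_iff.1 hm
      exact fixedBy_subset_fixedBy_zpow Ω q k hqa
    refine hq1 (FaithfulSMul.eq_of_smul_eq_smul (α := Ω) fun w => ?_)
    obtain ⟨g, rfl⟩ := exists_smul_eq G a w
    have := hN _ (hPn.conj_mem q hq g⁻¹)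
    rw [inv_inv, mul_smul, mul_smul, inv_smul_eq_iff] at this
    rw [one_smul, this]
  have hsurj : Function.Surjective (fun q : N => (q : G) • a) := by
    have hinj : Function.Injective (fun q : N => (q : G) • a) := by
      intro q r he
      simp only at he
      exact Subtype.ext (inv_mul_eq_one.1 (hreg _ (mul_mem (inv_mem r.2) q.2) (by
        rw [mul_smul, he, inv_smul_smul]))).symm
    exact ((Nat.bijective_iff_injective_and_card _).2 ⟨hinj, by rw [hPc, hn]⟩).2
  obtain ⟨v, hv⟩ : ∃ v : pairStab G a b, v ≠ 1 := by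
    haveI : Nontrivial (pairStab G a b) := Finite.one_lt_card_iff_nontrivial.1 (by omega)
    exact exists_ne _
  obtain ⟨q, hq⟩ := hsurj b
  simp only at hq
  have hcomm : (v : G) * q * (v : G)⁻¹ = q := by
    have := hreg _ (mul_mem (inv_mem q.2) (hPn.conj_mem q q.2 v)) (by
      rw [mul_smul, mul_smul, mul_smul, inv_smul_eq_iff.2 v.2.1.symm, hq, v.2.2, ← hq,
        inv_smul_smul])
    exact (inv_mul_eq_one.1 this).symm
  have hq1 : (q : G) ≠ 1 := fun e => hab (by rw [← hq, e, one_smul])
  refine hv (Subtype.ext (FaithfulSMul.eq_of_smul_eq_smul (α := Ω) fun w => ?_))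
  obtain ⟨m, rfl⟩ := hsurj w
  have hm : (m : G) ∈ Subgroup.zpowers (q : G) := by rw [hprime q q.2 hq1]; exact m.2
  obtain ⟨k, hk⟩ := Subgroup.mem_zpowers_iff.1 hm
  have hvm : (v : G) * m = m * v := by
    rw [← hk]
    exact (Commute.zpow_right (mul_inv_eq_iff_eq_mul.1 hcomm) k).eq
  rw [Subgroup.coe_one, one_smul, ← mul_smul, hvm, mul_smul, v.2.1]

end Cfsg.Agent.DerangeTwo
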